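import Groth.Agent.Coarse19.Section
import Groth.Agent.AlgSpLib.QuasiAffineCancel
import Groth.Agent.AlgSpLib.MorProper
import Groth.Agent.Stk19b.Quot.DiagFppf
import Groth.Agent.Stk19.AlgSt.FlatCover
import Groth.Agent.Stk19.AlgSt.Local

/-! Quasi-affine diagonals through smooth covers. -/

set_option autoImplicit false
set_option backward.isDefEq.respectTransparency false
set_option backward.isDefEq.respectTransparency.types false
set_option linter.style.haveILetI false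

universe u

open CategoryTheory CategoryTheory.Limits AlgebraicGeometry Opposite FibCat
open Groth.Agent.Desc19 Groth.Agent.Stk19 Groth.Agent.Stk19b

noncomputable section

namespace Groth.Agent.QADiag19

variable {S : Scheme.{u}} {𝒳 𝒴 𝒵 : AlgSt.Cat S}

local notation "QA" => AlgSp.IsQuasiAffineMor (S := S)

theorem qa_comp_affine ⦃X P Y : AlgSp.Sp S⦄ (k : X ⟶ P) (q : P ⟶ Y) (hk : QA k)
    (hq : AlgSp.IsAffineMor q) : QA (k ≫ q) := by
  intro Z hZ g
  obtain ⟨A, i, afst, sqA, hA⟩ := hq hZ g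
  obtain ⟨W, j, wfst, sqW, hW⟩ := hk hA afst
  exact ⟨W, j ≫ i, wfst, by rw [Functor.map_comp]; exact sqW.paste_vert sqA, hW⟩

theorem qa_of_comp ⦃X P Y : AlgSp.Sp S⦄ (hX : AlgSp.IsAlgSpace X) (hP : AlgSp.IsAlgSpace P)
    (k : X ⟶ P) (q : P ⟶ Y) (hq : AlgSp.IsAffineMor q) (h : QA (k ≫ q)) : QA k := by
  intro Z hZ t
  obtain ⟨B, j, bfst, sqB, hB⟩ := hq hZ (t ≫ q)
  obtain ⟨A, i, afst, sqA, hA⟩ := h hZ (t ≫ q)
  haveI : IsAffine Z.left := hZ
  haveI : IsAffine B.left := hB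
  -- the graph of `t`
  obtain ⟨γ, hγ⟩ := (AlgSp.yon S).map_surjective (sqB.lift t (𝟙 _) (by simp))
  have hγ₁ : (AlgSp.yon S).map γ ≫ bfst = t := by rw [hγ, sqB.lift_fst]
  have hγj : γ ≫ j = 𝟙 Z := (AlgSp.yon S).map_injective (by
    rw [Functor.map_comp, hγ, sqB.lift_snd, CategoryTheory.Functor.map_id])
  obtain ⟨c, hc⟩ := (AlgSp.yon S).map_surjective (sqB.lift (afst ≫ k) ((AlgSp.yon S).map i)
    (by rw [Category.assoc]; exact sqA.w))
  have hc₁ : (AlgSp.yon S).map c ≫ bfst = afst ≫ k := by rw [hc, sqB.lift_fst]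
  have hcj : c ≫ j = i := (AlgSp.yon S).map_injective (by rw [Functor.map_comp, hc, sqB.lift_snd])
  have sq := IsPullback.of_hasPullback c γ
  refine ⟨pullback c γ, pullback.snd c γ, (AlgSp.yon S).map (pullback.fst c γ) ≫ afst, ?_, ?_⟩
  · refine AlgSpLib.isPullback_of_yon ?_ fun T x y e => ?_
    · rw [Category.assoc, ← hc₁, ← Functor.map_comp_assoc, pullback.condition, Functor.map_comp, Category.assoc,
        hγ₁]
    · obtain ⟨y', rfl⟩ := (AlgSp.yon S).map_surjective y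
      obtain ⟨x', hx'⟩ := (AlgSp.yon S).map_surjective (sqA.lift x ((AlgSp.yon S).map y')
        (by rw [← Category.assoc, e, Category.assoc]))
      have hx₁ : (AlgSp.yon S).map x' ≫ afst = x := by rw [hx', sqA.lift_fst]
      have hx₂ : x' ≫ i = y' := (AlgSp.yon S).map_injective (by rw [Functor.map_comp, hx', sqA.lift_snd])
      have key : x' ≫ c = y' ≫ γ := (AlgSp.yon S).map_injective (sqB.hom_ext
        (by rw [Functor.map_comp, Functor.map_comp, Category.assoc, Category.assoc, hc₁, hγ₁, ← Category.assoc, hx₁, e])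
        (by rw [← Functor.map_comp, ← Functor.map_comp, Category.assoc, Category.assoc, hcj, hx₂, hγj,
          Category.comp_id]))
      refine ⟨(AlgSp.yon S).map (pullback.lift x' y' key), ⟨by
        rw [← Functor.map_comp_assoc, pullback.lift_fst, hx₁],
        by rw [← Functor.map_comp, pullback.lift_snd]⟩, fun l hl => ?_⟩
      obtain ⟨l', rfl⟩ := (AlgSp.yon S).map_surjective l
      obtain ⟨h1, h2⟩ := hl
      have h2' : l' ≫ pullback.snd c γ = y' := (AlgSp.yon S).map_injective (by rw [Functor.map_comp]; exact h2)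
      refine congrArg _ (pullback.hom_ext ((AlgSp.yon S).map_injective (sqA.hom_ext ?_ ?_)) ?_)
      · rw [pullback.lift_fst, hx₁, Functor.map_comp, Category.assoc, h1]
      · rw [pullback.lift_fst, ← Functor.map_comp, ← Functor.map_comp, hx₂, ← h2', Category.assoc,
          ← hcj, pullback.condition_assoc, hγj, Category.comp_id]
      · rw [pullback.lift_snd, h2']
  · have sq' := (IsPullback.of_hasPullback c γ).map (Over.forget S)
    have hsec : γ.left ≫ j.left = 𝟙 _ := by rw [← Over.comp_left, hγj]; rfl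
    haveI : IsClosedImmersion (γ.left ≫ j.left) := hsec ▸ inferInstance
    haveI : IsSeparated j.left := inferInstance
    haveI : IsClosedImmersion γ.left := IsClosedImmersion.of_comp γ.left j.left
    haveI : IsClosedImmersion (pullback.fst c γ).left :=
      MorphismProperty.IsStableUnderBaseChange.of_isPullback sq'.flip ‹_›
    haveI : A.left.IsQuasiAffine := hA
    exact Scheme.IsQuasiAffine.of_isAffineHom (pullback.fst c γ).left

theorem qa_local : AlgSp.IsLocalOnBase (AlgSp.IsFppfCover (S := S)) QA :=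
  fun _ _ Yi g hY hYi hτ => AlgSpLib.isLocalOnBase_fpqc_quasiAffine Yi g hY hYi
    (AlgSpLib.isFpqcCover_of_isFppfCover hY hYi hτ)

theorem respSrc_qa : RespSrc QA := respSrc_of_baseChange Quot.pbStable_quasiAffine

/-- Composition with an affine representable functor. -/
theorem with_comp_affine (h𝒳 : IsFibGrpd 𝒳.p) (h𝒴 : IsFibGrpd 𝒴.p) {f : 𝒳 ⥤ᵇ 𝒴} {g : 𝒴 ⥤ᵇ 𝒵}
    (hf : AlgSt.RepByAlgSpWith QA f) (hg : AlgSt.RepByAlgSpWith AlgSp.IsAffineMor g) :
    AlgSt.RepByAlgSpWith QA (BasedFunctor.comp f g) := fun U y => by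
  obtain ⟨W, eW, heW, hb⟩ := hg U y
  let z := BasedFunctor.comp eW (fpSnd y g)
  obtain ⟨V, a, e, he, ⟨i⟩⟩ := exists_rep_map h𝒳 h𝒴 (repByAlgSp1_of_with hf) W z
  have ha : QA a.hom := rep_prop_desc respSrc_qa (atlasDescent_of_local hasAtlasCovers_fppf qa_local) hf z he i
  have : (BasedFunctor.id 𝒴).toFunctor.Full := id_full _
  have : (BasedFunctor.id 𝒴).toFunctor.Faithful := id_faithful _
  let E : fp z f ⥤ᵇ fp (fpSnd y g) f :=
    fpMap (F' := fpSnd y g) (G' := f) eW (BasedFunctor.id _) (BasedFunctor.id _) (Iso.refl _) (Iso.refl _)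
  have hE : IsEquivOver E := isEquivOver_fpMap _ _ _ _ _ heW (isEquivOver_id _)
  refine ⟨V, BasedFunctor.comp e (BasedFunctor.comp E (fpCompFactor y f g)),
    isEquivOver_comp he (isEquivOver_comp hE (isEquivOver_fpCompFactor y f g)), ?_⟩
  have k : BasedFunctor.comp (BasedFunctor.comp e (BasedFunctor.comp E (fpCompFactor y f g)))
      (fpFst y (BasedFunctor.comp f g)) =
      BasedFunctor.comp (BasedFunctor.comp e (fpFst z f)) (BasedFunctor.comp eW (fpFst y g)) := rfl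
  have k' : AlgSt.spMapOfOver (BasedFunctor.comp (BasedFunctor.comp e (fpFst z f))
      (BasedFunctor.comp eW (fpFst y g))) = a.hom ≫ AlgSt.spMapOfOver (BasedFunctor.comp eW (fpFst y g)) := by
    rw [spMapOfOver_comp, spHom_congr i.hom, spHom_ofSpMap]
  rw [k, k']
  exact qa_comp_affine _ _ ha hb

variable [IsAffine S]

theorem with_affine_toSelf (V : Over S) [IsAffine V.left] :
    AlgSt.RepByAlgSpWith AlgSp.IsAffineMor (toSelf (overCat V)) := by
  let t : V ⟶ Over.mk (𝟙 S) := Over.homMk V.hom (Category.comp_id _)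
  haveI : IsAffine (Over.mk (𝟙 S) : Over S).left := inferInstanceAs (IsAffine S)
  have h1 : AlgSt.RepByAlgSpWith AlgSp.IsAffineMor (AlgSt.ofSpMap ((AlgSp.yon S).map t)) :=
    repByAlgSpWith_ofSpMap (fun _ _ _ _ _ _ _ _ _ _ _ _ sq h => AlgSpLib.isAffineMor_of_isPullback sq h)
      (V := ⟨_, AlgSp.IsAlgSpace.yon_obj _⟩) (Z := ⟨_, AlgSp.IsAlgSpace.yon_obj _⟩) _
      ((AlgSpLib.isAffineMor_iff_repWith _).2 ((AlgSp.repWith_yon_map_iff _ t).2
        (isAffineHom_of_isAffine t.left)))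
  have h2 : AlgSt.RepByAlgSpWith AlgSp.IsAffineMor (AlgSt.overMap t) :=
    (repByAlgSpWith_iff_of_square (isEquivOver_ofOverCat V) (isEquivOver_ofOverCat _)
      (eqToIso (ofOver_overMap t))).2 h1
  exact (repByAlgSpWith_iff_of_square (a := BasedFunctor.id (overCat V)) (f' := AlgSt.overMap t)
    (f := toSelf (overCat V)) (isEquivOver_id _) isEquivOver_toSelf_terminal (selfIso _ _)).1 h2

theorem with_affine_fst (U V : Over S) [IsAffine V.left] :
    AlgSt.RepByAlgSpWith AlgSp.IsAffineMor (fpFst (toSelf (overCat U)) (toSelf (overCat V))) :=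
  repByAlgSpWith_fpFst _ (with_affine_toSelf V)

/-- A functor from an affine scheme is quasi-affine if the diagonal is. -/
theorem with_qa_of_diag (h : AlgSt.IsAlgStack Scheme.fppfPrecoverage 𝒳)
    (hΔ : AlgSt.RepByAlgSpWith QA (FibCat.diag (toSelf 𝒳))) {V : Over S} [IsAffine V.left]
    (xV : overCat V ⥤ᵇ 𝒳) : AlgSt.RepByAlgSpWith QA xV := fun U y => by
  have h1 : AlgSt.RepByAlgSpWith QA (fpToProd y xV) :=
    (repByAlgSpWith_iff_of_square (f' := fpToProd y xV) (f := fpFst (prodPair y xV) (FibCat.diag (toSelf 𝒳)))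
      (a := magicSquare y xV) (b := BasedFunctor.id _) (isEquivOver_magicSquare y xV) (isEquivOver_id _)
      (Iso.refl _)).2 (repByAlgSpWith_fpFst _ hΔ)
  have hU := isFibGrpd_overCat U
  have hV := isFibGrpd_overCat V
  have h2 : AlgSt.RepByAlgSpWith QA (fpFst y xV) :=
    repByAlgSpWith_of_iso (Iso.refl _) (with_comp_affine (fibGrpd_fp hU hV h.isStack.1 y xV)
      (fibGrpd_fp hU hV isAlgStack_selfOver.isStack.1 _ _) h1 (with_affine_fst U V))
  exact witness_transfer (isEquivOver_fpPaste (BasedFunctor.id _) y xV) (q' := fpFst y xV)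
    (eqToIso (fpPaste_fst (BasedFunctor.id _) y xV)) (h2 U (BasedFunctor.id _))

/-- The base change of the diagonal along two quasi-affine charts is quasi-affine. -/
theorem with_qa_prodPair {A B : Over S} [IsAffine A.left] [IsAffine B.left] (xa : overCat A ⥤ᵇ 𝒳)
    (xb : overCat B ⥤ᵇ 𝒳) (hxb : AlgSt.RepByAlgSpWith QA xb) :
    AlgSt.RepByAlgSpWith QA (fpFst (prodPair xa xb) (FibCat.diag (toSelf 𝒳))) :=
  (repByAlgSpWith_iff_of_square (f' := fpToProd xa xb) (f := fpFst (prodPair xa xb) (FibCat.diag (toSelf 𝒳)))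
      (a := magicSquare xa xb) (b := BasedFunctor.id _) (isEquivOver_magicSquare xa xb) (isEquivOver_id _)
      (Iso.refl _)).1
    (repByAlgSpWith_of_comp (Q := AlgSp.IsAffineMor) Quot.pbStable_quasiAffine
      (fun _ _ _ hX hY _ a b hb h => qa_of_comp hX hY a b hb h)
      (g := fpFst (toSelf (overCat A)) (toSelf (overCat B))) (with_affine_fst A B) (repByAlgSpWith_fpFst xa hxb))

theorem exists_overMap {W U : Over S} (z : overCat W ⥤ᵇ overCat U) :
    ∃ m : W ⟶ U, Nonempty (z ≅ AlgSt.overMap m) := by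
  obtain ⟨i⟩ := spMapOfOver_iso (BasedFunctor.comp (AlgSt.toOverCat W) z)
  obtain ⟨m, hm⟩ := (AlgSp.yon S).map_surjective (AlgSt.spMapOfOver (BasedFunctor.comp (AlgSt.toOverCat W) z))
  refine ⟨m, ⟨(Stk.restr (AlgSt.ofOverCat W) _).mapIso i ≪≫ eqToIso ?_⟩⟩
  rw [← hm]
  rfl

theorem diag_qa_of_cover (h : AlgSt.IsAlgStack Scheme.fppfPrecoverage 𝒳) {U : Over S} (x : overCat U ⥤ᵇ 𝒳)
    (hx : AlgSt.RepByAlgSpWith (AlgSp.LocP @Smooth) x) (hxs : AlgSt.RepByAlgSpWith AlgSp.IsSurjectiveMor x)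
    (hV : ∀ (V : U.left.Opens), IsAffineOpen V →
      AlgSt.RepByAlgSpWith QA
        (BasedFunctor.comp (AlgSt.overMap (Over.homMk V.ι rfl : Over.mk (V.ι ≫ U.hom) ⟶ U)) x)) :
    AlgSt.RepByAlgSpWith QA (FibCat.diag (toSelf 𝒳)) := fun T y => by
  have hΔ := h.diag
  obtain ⟨F, e, he⟩ := hΔ T y
  set a := AlgSt.spMapOfOver (BasedFunctor.comp e (fpFst y (FibCat.diag (toSelf 𝒳)))) with ha
  obtain ⟨W, c, hc, hcs, l₁, l₂, ⟨i₁⟩, ⟨i₂⟩⟩ := exists_cover_lift hx hxs
    (BasedFunctor.comp y (fpFst (toSelf 𝒳) (toSelf 𝒳))) (BasedFunctor.comp y (fpSnd (toSelf 𝒳) (toSelf 𝒳)))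
  obtain ⟨m₁, ⟨j₁⟩⟩ := exists_overMap l₁
  obtain ⟨m₂, ⟨j₂⟩⟩ := exists_overMap l₂
  have hp : ∀ t : T.left, ∃ (O : W.left.Opens) (A B : U.left.Opens), IsAffineOpen A ∧ IsAffineOpen B ∧
      (∃ w : W.left, w ∈ O ∧ c.left w = t) ∧ O ≤ m₁.left ⁻¹ᵁ A ∧ O ≤ m₂.left ⁻¹ᵁ B := fun t => by
    obtain ⟨w, hw⟩ := c.left.surjective t
    obtain ⟨A, hA, hwA, -⟩ := exists_isAffineOpen_mem_and_subset (U := ⊤) (x := m₁.left w) trivial
    obtain ⟨B, hB, hwB, -⟩ := exists_isAffineOpen_mem_and_subset (U := ⊤) (x := m₂.left w) trivial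
    exact ⟨m₁.left ⁻¹ᵁ A ⊓ m₂.left ⁻¹ᵁ B, A, B, hA, hB, ⟨w, ⟨hwA, hwB⟩, hw⟩, inf_le_left, inf_le_right⟩
  choose O A B hA hB hw hOA hOB using hp
  let Wt : T.left → Over S := fun t => Over.mk ((O t).ι ≫ W.hom)
  let ot : ∀ t, Wt t ⟶ W := fun t => Over.homMk (O t).ι rfl
  let ct : ∀ t, Wt t ⟶ T := fun t => ot t ≫ c
  have : (BasedFunctor.id (fp (toSelf 𝒳) (toSelf 𝒳))).toFunctor.Full := id_full _
  have : (BasedFunctor.id (fp (toSelf 𝒳) (toSelf 𝒳))).toFunctor.Faithful := id_faithful _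
  refine ⟨F, e, he, of_local_family qa_local ct
    (fun t => by
      rw [Over.comp_left]
      exact MorphismProperty.comp_mem @Flat _ _ (inferInstanceAs (Flat (O t).ι)) inferInstance)
    (fun t => by
      rw [Over.comp_left]
      exact MorphismProperty.comp_mem @LocallyOfFinitePresentation _ _
        (inferInstanceAs (LocallyOfFinitePresentation (O t).ι)) inferInstance)
    (fun t => by
      obtain ⟨w, hwO, hwt⟩ := hw t
      exact ⟨t, ⟨w, hwO⟩, hwt⟩) a fun t => ?_⟩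
  let oA : Over.mk ((A t).ι ≫ U.hom) ⟶ U := Over.homMk (A t).ι rfl
  let oB : Over.mk ((B t).ι ≫ U.hom) ⟶ U := Over.homMk (B t).ι rfl
  haveI : IsAffine (Over.mk ((A t).ι ≫ U.hom)).left := hA t
  haveI : IsAffine (Over.mk ((B t).ι ≫ U.hom)).left := hB t
  have hrA : Set.range ((ot t) ≫ m₁).left ⊆ Set.range (A t).ι := by
    rintro _ ⟨z, rfl⟩
    exact (A t).range_ι.symm.subset (hOA t z.2)
  have hrB : Set.range ((ot t) ≫ m₂).left ⊆ Set.range (B t).ι := by
    rintro _ ⟨z, rfl⟩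
    exact (B t).range_ι.symm.subset (hOB t z.2)
  let la : Wt t ⟶ Over.mk ((A t).ι ≫ U.hom) := Over.homMk (IsOpenImmersion.lift (A t).ι _ hrA) (by
    show _ ≫ (A t).ι ≫ U.hom = _
    rw [IsOpenImmersion.lift_fac_assoc, Over.w])
  let lb : Wt t ⟶ Over.mk ((B t).ι ≫ U.hom) := Over.homMk (IsOpenImmersion.lift (B t).ι _ hrB) (by
    show _ ≫ (B t).ι ≫ U.hom = _
    rw [IsOpenImmersion.lift_fac_assoc, Over.w])
  have ela : la ≫ oA = ot t ≫ m₁ := Over.OverMorphism.ext (IsOpenImmersion.lift_fac _ _ _)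
  have elb : lb ≫ oB = ot t ≫ m₂ := Over.OverMorphism.ext (IsOpenImmersion.lift_fac _ _ _)
  let xa := BasedFunctor.comp (AlgSt.overMap oA) x
  let xb := BasedFunctor.comp (AlgSt.overMap oB) x
  let z := pairSelf (AlgSt.overMap la) (AlgSt.overMap lb)
  obtain ⟨k₁⟩ := Stk19.overMap_comp la oA
  obtain ⟨k₁'⟩ := Stk19.overMap_comp (ot t) m₁
  obtain ⟨k₂⟩ := Stk19.overMap_comp lb oB
  obtain ⟨k₂'⟩ := Stk19.overMap_comp (ot t) m₂
  obtain ⟨k₀⟩ := Stk19.overMap_comp (ot t) c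
  obtain ⟨i⟩ := Coarse19.pair_iso (L := BasedFunctor.comp z (prodPair xa xb))
    (L' := BasedFunctor.comp (AlgSt.overMap (ct t)) y)
    ((postB _ x).mapIso (k₁ ≪≫ eqToIso (congrArg AlgSt.overMap ela) ≪≫ k₁'.symm ≪≫
        (Stk.restr (AlgSt.overMap (ot t)) _).mapIso j₁.symm) ≪≫
      (Stk.restr (AlgSt.overMap (ot t)) _).mapIso i₁ ≪≫
      (postB _ (BasedFunctor.comp y (fpFst _ _))).mapIso k₀)
    ((postB _ x).mapIso (k₂ ≪≫ eqToIso (congrArg AlgSt.overMap elb) ≪≫ k₂'.symm ≪≫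
        (Stk.restr (AlgSt.overMap (ot t)) _).mapIso j₂.symm) ≪≫
      (Stk.restr (AlgSt.overMap (ot t)) _).mapIso i₂ ≪≫
      (postB _ (BasedFunctor.comp y (fpSnd _ _))).mapIso k₀)
  let y' := BasedFunctor.comp (AlgSt.toOverCat T) y
  let E' : fp y (FibCat.diag (toSelf 𝒳)) ⥤ᵇ fp y' (FibCat.diag (toSelf 𝒳)) :=
    fpMap (F' := y') (G' := FibCat.diag (toSelf 𝒳)) (AlgSt.ofOverCat T) (BasedFunctor.id _) (BasedFunctor.id _)
      (Iso.refl _) (Iso.refl _)
  have hE' : IsEquivOver E' := isEquivOver_fpMap _ _ _ _ _ (isEquivOver_ofOverCat T) (isEquivOver_id _)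
  obtain ⟨j⟩ := spHom_iso (BasedFunctor.comp (BasedFunctor.comp e (fpFst y (FibCat.diag (toSelf 𝒳)))) (AlgSt.ofOverCat T))
  obtain ⟨E, hE, hEf, -⟩ := exists_congr (F := BasedFunctor.comp z (prodPair xa xb))
    (G := FibCat.diag (toSelf 𝒳)) i (Iso.refl _)
  have hW := witness_transfer (isEquivOver_comp (isEquivOver_fpPaste z (prodPair xa xb) (FibCat.diag (toSelf 𝒳))) hE)
    (q' := fpFst (BasedFunctor.comp (AlgSt.overMap (ct t)) y) (FibCat.diag (toSelf 𝒳)))
    (eqToIso (show BasedFunctor.comp (fpPaste z _ _) (BasedFunctor.comp E (fpFst _ _)) = _ by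
      rw [hEf, fpPaste_fst])) (with_qa_prodPair xa xb (hV (B t) (hB t)) (Wt t) z)
  exact prop_of_chart respSrc_qa
    (isAlgSpace_pullback_yon (Z := ⟨_, AlgSp.IsAlgSpace.yon_obj T⟩) a ((AlgSp.yon S).map (ct t)))
    y' (e := BasedFunctor.comp e E') (isEquivOver_comp he hE') (a := a) j
    (IsPullback.of_hasPullback a ((AlgSp.yon S).map (ct t)))
    (y := BasedFunctor.comp (AlgSt.overMap (ct t)) y) (Iso.refl _) hW

end Groth.Agent.QADiag19
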